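import Groth.Agent.SteinEt.Etale
import Groth.Agent.SteinGen.Factor
import Groth.Agent.FlatMor.ReducedDescent
import Mathlib.AlgebraicGeometry.Normalization

/-!
# The Stein factorisation of a proper flat morphism with geometrically reduced fibres
-/

set_option autoImplicit false
set_option linter.style.haveILetI false
set_option backward.isDefEq.respectTransparency false
set_option backward.isDefEq.respectTransparency.types false
set_option maxHeartbeats 1000000

universe u

open CategoryTheory CategoryTheory.Limits AlgebraicGeometry TopologicalSpace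

noncomputable section

namespace Groth.Agent.SteinEt

theorem geometricallyReduced_of_algClosed {X S : Scheme.{u}} (f : X ⟶ S)
    (h : ∀ (Ω : Type u) [Field Ω] [IsAlgClosed Ω] (σ : Spec (CommRingCat.of Ω) ⟶ S), IsReduced (pullback f σ)) :
    GeometricallyReduced f := by
  refine ⟨fun K _ y Z fst snd H => ?_⟩
  let t := Spec.map (CommRingCat.ofHom (algebraMap K (AlgebraicClosure K)))
  haveI : Flat t := (FlatMor.flat_surjective_spec_field_hom _).1
  haveI : Surjective t := (FlatMor.flat_surjective_spec_field_hom _).2
  haveI : IsReduced (pullback f (t ≫ y)) := h _ _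
  have H' := (IsPullback.of_hasPullback snd t).paste_horiz H
  haveI : IsReduced (pullback snd t) := isReduced_of_isOpenImmersion H'.isoPullback.hom
  exact FlatMor.isReduced_of_flat_surjective (pullback.fst snd t)

theorem geometricallyReduced_openImmersion_comp {X Y S : Scheme.{u}} (j : X ⟶ Y) [IsOpenImmersion j] (g : Y ⟶ S)
    [GeometricallyReduced g] : GeometricallyReduced (j ≫ g) := by
  refine ⟨fun K _ y Z fst snd H => ?_⟩
  haveI : IsReduced (pullback g y) := GeometricallyReduced.geometrically_isReduced _ _ _ (.of_hasPullback g y)
  let u : Z ⟶ pullback g y := pullback.lift (fst ≫ j) snd (by rw [Category.assoc]; exact H.w)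
  have hu : IsPullback fst u j (pullback.fst g y) :=
    IsPullback.of_bot (by rw [pullback.lift_snd]; exact H) (pullback.lift_fst _ _ _).symm (IsPullback.of_hasPullback g y)
  haveI : IsOpenImmersion u := MorphismProperty.of_isPullback (P := @IsOpenImmersion) hu inferInstance
  exact isReduced_of_isOpenImmersion u

variable {X S : Scheme.{u}} (f : X ⟶ S) [IsProper f] [Flat f] [LocallyOfFinitePresentation f] [GeometricallyReduced f]

omit [IsProper f] [Flat f] [LocallyOfFinitePresentation f] [GeometricallyReduced f] in
theorem app_bijective_of_iso {Y : Scheme.{u}} (g : X ⟶ Y) (V W : Y.Opens) (e : V = W)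
    (h : IsIso (g.app V)) : IsIso (g.app W) := by subst e; exact h

/-- **the finite part of the Stein factorisation is finite étale** -/
theorem isFinite_and_etale_fromNormalization : IsFinite f.fromNormalization ∧ Etale f.fromNormalization := by
  have key : ∀ V : S.affineOpens,
      (f.fromNormalization ∣_ V.1).appTop.hom.Finite ∧ (f.fromNormalization ∣_ V.1).appTop.hom.Etale := fun V => by
    haveI : IsAffine (V.1 : Scheme.{u}) := V.2
    haveI : GeometricallyReduced (f ∣_ V.1) := inferInstance
    obtain ⟨hf, he⟩ := finite_and_etale_appTop (f ∣_ V.1)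
    haveI : IsIso (f.toNormalization ∣_ (f.fromNormalization ⁻¹ᵁ V.1)).appTop := by
      rw [morphismRestrict_appTop]
      haveI := SteinGen.isIso_toNormalization_app f ((f.fromNormalization ⁻¹ᵁ V.1).ι ''ᵁ ⊤)
      infer_instance
    have e : ∃ i : Γ((f.fromNormalization ⁻¹ᵁ V.1).toScheme, ⊤) ≅ Γ((f ⁻¹ᵁ V.1).toScheme, ⊤),
        (f.fromNormalization ∣_ V.1).appTop ≫ i.hom = (f ∣_ V.1).appTop := by
      have h : f ⁻¹ᵁ V.1 = f.toNormalization ⁻¹ᵁ (f.fromNormalization ⁻¹ᵁ V.1) := by
        rw [← Scheme.Hom.comp_preimage, f.toNormalization_fromNormalization]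
      refine ⟨asIso ((f.toNormalization ∣_ (f.fromNormalization ⁻¹ᵁ V.1)).appTop) ≪≫
        asIso ((X.isoOfEq h).hom.appTop), ?_⟩
      rw [Iso.trans_hom, asIso_hom, asIso_hom, ← Scheme.Hom.comp_appTop, ← Scheme.Hom.comp_appTop]
      congr 1
      rw [← cancel_mono V.1.ι, Category.assoc, Category.assoc, morphismRestrict_ι, morphismRestrict_ι,
        morphismRestrict_ι_assoc, Scheme.isoOfEq_hom_ι_assoc, f.toNormalization_fromNormalization]
    obtain ⟨i, hi⟩ := e
    rw [← Iso.eq_comp_inv] at hi
    rw [hi]
    exact ⟨RingHom.Finite.comp (RingHom.Finite.of_surjective i.inv.hom (ConcreteCategory.bijective_of_isIso i.inv).2) hf,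
      RingHom.Etale.stableUnderComposition _ _ he (RingHom.Etale.of_bijective (ConcreteCategory.bijective_of_isIso i.inv))⟩
  refine ⟨?_, ?_⟩
  · refine IsZariskiLocalAtTarget.of_iSup_eq_top (P := @IsFinite) (fun V : S.affineOpens => V.1) (iSup_affineOpens_eq_top S) fun V => ?_
    haveI : IsAffine (V.1 : Scheme.{u}) := V.2
    haveI : IsAffine (f.fromNormalization ⁻¹ᵁ V.1).toScheme := V.2.preimage _
    exact HasAffineProperty.iff_of_isAffine.2 ⟨inferInstance, (key V).1⟩
  · refine IsZariskiLocalAtTarget.of_iSup_eq_top (P := @Etale) (fun V : S.affineOpens => V.1) (iSup_affineOpens_eq_top S) fun V => ?_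
    haveI : IsAffine (V.1 : Scheme.{u}) := V.2
    haveI : IsAffine (f.fromNormalization ⁻¹ᵁ V.1).toScheme := V.2.preimage _
    exact (HasRingHomProperty.iff_of_isAffine (P := @Etale)).2 (key V).2

/-- the connected part of the Stein factorisation -/
theorem toNormalization_props : IsProper f.toNormalization ∧ Flat f.toNormalization ∧
    LocallyOfFinitePresentation f.toNormalization ∧ GeometricallyReduced f.toNormalization ∧
    Surjective f.toNormalization := by
  obtain ⟨hfin, het⟩ := isFinite_and_etale_fromNormalization f
  haveI := hfin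
  haveI := het
  haveI : IsProper (f.toNormalization ≫ f.fromNormalization) := by
    rw [f.toNormalization_fromNormalization]; infer_instance
  haveI hp : IsProper f.toNormalization := IsProper.of_comp f.toNormalization f.fromNormalization
  let j : X ⟶ pullback f f.fromNormalization :=
    pullback.lift (𝟙 X) f.toNormalization (by rw [Category.id_comp, f.toNormalization_fromNormalization])
  have hj₁ : j ≫ pullback.fst f f.fromNormalization = 𝟙 X := pullback.lift_fst _ _ _
  have hj₂ : j ≫ pullback.snd f f.fromNormalization = f.toNormalization := pullback.lift_snd _ _ _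
  haveI : Etale (pullback.fst f f.fromNormalization) := inferInstance
  haveI : Mono j := mono_of_mono_fac hj₁
  haveI : Etale (j ≫ pullback.fst f f.fromNormalization) := by rw [hj₁]; infer_instance
  haveI : Etale j := Etale.of_comp j (pullback.fst f f.fromNormalization)
  haveI : IsOpenImmersion j := IsOpenImmersion.of_flat_of_mono j
  haveI := geometricallyReduced_openImmersion_comp j (pullback.snd f f.fromNormalization)
  refine ⟨hp, hj₂ ▸ inferInstance, hj₂ ▸ inferInstance, hj₂ ▸ inferInstance, ⟨fun s => ?_⟩⟩
  haveI : GeometricallyConnected f.toNormalization := inferInstance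
  let k := f.normalization.residueField s
  haveI := GeometricallyConnected.geometrically_connectedSpace (f := f.toNormalization)
    (f.normalization.fromSpecResidueField s) _ _ (IsPullback.of_hasPullback _ _)
  obtain ⟨z⟩ := (inferInstance : Nonempty (pullback f.toNormalization (f.normalization.fromSpecResidueField s) : Scheme.{u}))
  refine ⟨pullback.fst _ (f.normalization.fromSpecResidueField s) z, ?_⟩
  rw [← Scheme.Hom.comp_apply, pullback.condition, Scheme.Hom.comp_apply, Scheme.fromSpecResidueField_apply]

/-- **the Stein factorisation commutes with base change** -/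
theorem isIso_normalizationPullback {T : Scheme.{u}} (g : T ⟶ S) : IsIso (f.normalizationPullback g) := by
  obtain ⟨hp, hfl, hlfp, hgr, hs⟩ := toNormalization_props f
  haveI := hp
  haveI := hfl
  haveI := hlfp
  haveI := hgr
  haveI := hs
  haveI : IsProper (pullback.snd f g) := MorphismProperty.pullback_snd _ _ inferInstance
  let ν := f.normalizationPullback g
  let m := (pullback.snd f g).toNormalization ≫ ν
  have hsq : IsPullback (pullback.fst f g) m f.toNormalization (pullback.fst f.fromNormalization g) := by
    refine IsPullback.of_bot ?_ ?_ (IsPullback.of_hasPullback f.fromNormalization g)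
    · rw [f.toNormalization_fromNormalization, show m ≫ pullback.snd _ _ = pullback.snd f g by simp [m, ν]]
      exact IsPullback.of_hasPullback f g
    · simp [m, ν]
  haveI : GeometricallyConnected m := MorphismProperty.of_isPullback hsq inferInstance
  haveI : GeometricallyReduced m := MorphismProperty.of_isPullback hsq hgr
  haveI : Surjective m := MorphismProperty.of_isPullback hsq hs
  haveI : IsProper m := MorphismProperty.of_isPullback hsq hp
  haveI : Flat m := MorphismProperty.of_isPullback hsq hfl
  haveI : LocallyOfFinitePresentation m := MorphismProperty.of_isPullback hsq hlfp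
  haveI : IsAffineHom ν := inferInstance
  refine IsZariskiLocalAtTarget.of_iSup_eq_top (P := MorphismProperty.isomorphisms Scheme.{u})
    (fun V : (pullback f.fromNormalization g : Scheme.{u}).affineOpens => V.1) (iSup_affineOpens_eq_top _) fun V => ?_
  refine (isIso_morphismRestrict_iff_isIso_app _ V.2).2 ?_
  haveI h1 : IsIso (m.app V.1) := StructPush.isIso_app m V.1
  haveI h2 : IsIso ((pullback.snd f g).toNormalization.app (ν ⁻¹ᵁ V.1)) := SteinGen.isIso_toNormalization_app _ _
  rw [show m.app V.1 = ν.app V.1 ≫ (pullback.snd f g).toNormalization.app (ν ⁻¹ᵁ V.1) from Scheme.Hom.comp_app _ _ _] at h1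
  haveI := h1
  exact IsIso.of_isIso_comp_right (ν.app V.1) ((pullback.snd f g).toNormalization.app (ν ⁻¹ᵁ V.1))

end Groth.Agent.SteinEt
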