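import Groth.Agent.SteinEt.Free
import Groth.Agent.SteinGen.Basic
import Mathlib.RingTheory.Kaehler.TensorProduct
import Mathlib.RingTheory.Smooth.Fiber

/-!
# Functions of a proper flat morphism with geometrically reduced fibres form a finite étale algebra
-/

set_option autoImplicit false
set_option linter.style.haveILetI false
set_option backward.isDefEq.respectTransparency false
set_option backward.isDefEq.respectTransparency.types false
set_option maxHeartbeats 2000000

universe u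

open CategoryTheory CategoryTheory.Limits AlgebraicGeometry TopologicalSpace TensorProduct

noncomputable section

namespace Groth.Agent.SteinEt

theorem isFinLocFree_of_restrict_top {S : Scheme.{u}} {R : S.Modules}
    (h : FlatMod.IsFinLocFree (R.restrict (⊤ : S.Opens).ι)) : FlatMod.IsFinLocFree R := fun x => by
  obtain ⟨V, n, hV, ⟨e⟩⟩ := h ⟨x, trivial⟩
  refine ⟨(⊤ : S.Opens).ι ''ᵁ V, n, ⟨⟨x, trivial⟩, hV, rfl⟩, ⟨?_⟩⟩
  exact (Scheme.Modules.restrictFunctorCongr (Scheme.Hom.isoImage_inv_ι (⊤ : S.Opens).ι V)).symm.app R ≪≫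
    (Scheme.Modules.restrictFunctorComp ((⊤ : S.Opens).ι.isoImage V).inv (V.ι ≫ (⊤ : S.Opens).ι)).app R ≪≫
    (Scheme.Modules.restrictFunctor ((⊤ : S.Opens).ι.isoImage V).inv).mapIso
      ((Scheme.Modules.restrictFunctorComp V.ι (⊤ : S.Opens).ι).app R ≪≫ e) ≪≫
    (Scheme.Modules.restrictFunctorIsoPullback ((⊤ : S.Opens).ι.isoImage V).inv).app _ ≪≫
    DerPerf.pullFreeIso ((⊤ : S.Opens).ι.isoImage V).inv n

/-- functions of a proper geometrically reduced scheme over a separably closed field are unramified -/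
theorem formallyUnramified_of_sepClosed {K : Type u} [Field K] [IsSepClosed K] {Z : Scheme.{u}}
    (q : Z ⟶ Spec (CommRingCat.of K)) [IsProper q] [GeometricallyReduced q] :
    @Algebra.FormallyUnramified Γ(Spec (CommRingCat.of K), ⊤) Γ(Z, ⊤) _ _ q.appTop.hom.toAlgebra := by
  letI := q.appTop.hom.toAlgebra
  let D := KaehlerDifferential.D Γ(Spec (CommRingCat.of K), ⊤) Γ(Z, ⊤)
  let T : Subring Γ(Z, ⊤) :=
    { carrier := {a | D a = 0}
      one_mem' := D.map_one_eq_zero
      zero_mem' := map_zero D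
      mul_mem' := fun {a b} ha hb => by
        simp only [Set.mem_ofPred_eq] at ha hb ⊢
        rw [D.leibniz, ha, hb, smul_zero, smul_zero, add_zero]
      add_mem' := fun {a b} ha hb => by
        simp only [Set.mem_ofPred_eq] at ha hb ⊢
        rw [map_add, ha, hb, add_zero]
      neg_mem' := fun {a} ha => by
        simp only [Set.mem_ofPred_eq] at ha ⊢
        rw [map_neg, ha, neg_zero] }
  have hT : T = ⊤ := mem_of_idempotents q T (fun c => D.map_algebraMap c) fun W hW => by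
    obtain ⟨e, he, heW⟩ := FinFibImage.exists_idem_of_isClopen W hW
    refine ⟨e, ?_, he, heW⟩
    show D e = 0
    have h1 : D (e * e) = e • D e + e • D e := D.leibniz e e
    rw [he.eq] at h1
    have h2 : e • D e = 0 := by
      have h3 := congrArg (fun z => e • z) h1
      simp only [smul_add, smul_smul, he.eq] at h3
      exact add_left_cancel (h3.symm.trans (add_zero _).symm)
    rw [h1, h2, add_zero]
  refine ⟨subsingleton_of_forall_eq 0 fun x => ?_⟩
  have hx : x ∈ Submodule.span Γ(Z, ⊤) (Set.range D) := by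
    rw [KaehlerDifferential.span_range_derivation]; trivial
  induction hx using Submodule.span_induction with
  | mem z hz =>
    obtain ⟨a, rfl⟩ := hz
    exact (hT ▸ Subring.mem_top a : a ∈ T)
  | zero => rfl
  | add u v _ _ hu hv => rw [hu, hv, add_zero]
  | smul c v _ hv => rw [hv, smul_zero]

theorem subsingleton_of_tensor_field (k K : Type u) [Field k] [Field K] [Algebra k K] (M : Type u) [AddCommGroup M]
    [Module k M] [Subsingleton (K ⊗[k] M)] : Subsingleton M :=
  Module.FaithfullyFlat.lTensor_reflects_triviality k K M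

variable {X S : Scheme.{u}} (f : X ⟶ S) [IsProper f] [Flat f] [LocallyOfFinitePresentation f]
  [GeometricallyReduced f] [IsAffine S]

/-- **the functions form a finite étale algebra** -/
theorem finite_and_etale_appTop : f.appTop.hom.Finite ∧ f.appTop.hom.Etale := by
  letI : Algebra Γ(S, ⊤) Γ(X, ⊤) := f.appTop.hom.toAlgebra
  let O := Coh.structureModule X
  let R := (Coh.push f).obj O
  have hR : FlatMod.IsFinLocFree R := isFinLocFree_of_restrict_top (isFinLocFree_push f)
  haveI h₁ : Module.FinitePresentation Γ(S, ⊤) Γ(R, ⊤) := LocFree.finitePresentation_sections hR (isAffineOpen_top S)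
  haveI h₂ : Module.Projective Γ(S, ⊤) Γ(R, ⊤) := LocFree.projective_sections hR (isAffineOpen_top S)
  let e : Γ(R, ⊤) ≃ₗ[Γ(S, ⊤)] Γ(X, ⊤) :=
    { toFun := fun a => (show Γ(X, ⊤) from a)
      invFun := fun a => (show Γ(R, ⊤) from a)
      left_inv := fun _ => rfl
      right_inv := fun _ => rfl
      map_add' := fun _ _ => rfl
      map_smul' := fun _ _ => rfl }
  haveI : Module.FinitePresentation Γ(S, ⊤) Γ(X, ⊤) := Module.finitePresentation_of_surjective e.toLinearMap e.surjective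
    (by rw [LinearEquiv.ker]; exact Submodule.fg_bot)
  haveI : Module.Projective Γ(S, ⊤) Γ(X, ⊤) := Module.Projective.of_equiv e
  haveI : Algebra.FinitePresentation Γ(S, ⊤) Γ(X, ⊤) := inferInstance
  refine ⟨RingHom.finite_algebraMap.2 inferInstance, RingHom.etale_algebraMap.2 ?_⟩
  haveI : Module.Finite Γ(S, ⊤) Ω[Γ(X, ⊤)⁄Γ(S, ⊤)] := Module.Finite.trans Γ(X, ⊤) _
  haveI : Algebra.FormallyUnramified Γ(S, ⊤) Γ(X, ⊤) := by
    refine ⟨(Module.support_eq_empty_iff (R := Γ(S, ⊤))).1 (Set.eq_empty_of_forall_notMem fun p hp => ?_)⟩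
    rw [Module.mem_support_iff_nontrivial_residueField_tensorProduct] at hp
    let κ := p.asIdeal.ResidueField
    let K := AlgebraicClosure κ
    let ψ : Γ(S, ⊤) →+* K := (algebraMap κ K).comp (algebraMap Γ(S, ⊤) κ)
    let φ : Spec (CommRingCat.of K) ⟶ S := Spec.map (CommRingCat.ofHom ψ) ≫ S.isoSpec.inv
    let qt := pullback.snd f φ
    let pt := pullback.fst f φ
    have HP := isPushout_appTop f (IsPullback.of_hasPullback f φ)
    haveI := formallyUnramified_of_sepClosed qt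
    letI : Algebra Γ(S, ⊤) Γ(Spec (CommRingCat.of K), ⊤) := φ.appTop.hom.toAlgebra
    letI : Algebra Γ(Spec (CommRingCat.of K), ⊤) Γ(pullback f φ, ⊤) := qt.appTop.hom.toAlgebra
    letI : Algebra Γ(X, ⊤) Γ(pullback f φ, ⊤) := pt.appTop.hom.toAlgebra
    letI : Algebra Γ(S, ⊤) Γ(pullback f φ, ⊤) := (pt.appTop.hom.comp f.appTop.hom).toAlgebra
    haveI : IsScalarTower Γ(S, ⊤) Γ(X, ⊤) Γ(pullback f φ, ⊤) := IsScalarTower.of_algebraMap_eq' rfl
    haveI : IsScalarTower Γ(S, ⊤) Γ(Spec (CommRingCat.of K), ⊤) Γ(pullback f φ, ⊤) :=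
      IsScalarTower.of_algebraMap_eq' (by
        show pt.appTop.hom.comp f.appTop.hom = qt.appTop.hom.comp φ.appTop.hom
        exact congrArg CommRingCat.Hom.hom HP.w)
    haveI : Algebra.IsPushout Γ(S, ⊤) Γ(X, ⊤) Γ(Spec (CommRingCat.of K), ⊤) Γ(pullback f φ, ⊤) :=
      CommRingCat.isPushout_iff_isPushout.mp HP
    haveI := (inferInstance : Algebra.IsPushout Γ(S, ⊤) Γ(X, ⊤) Γ(Spec (CommRingCat.of K), ⊤) Γ(pullback f φ, ⊤)).symm
    have h0 : Subsingleton (Γ(Spec (CommRingCat.of K), ⊤) ⊗[Γ(S, ⊤)] Ω[Γ(X, ⊤)⁄Γ(S, ⊤)]) :=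
      ((KaehlerDifferential.tensorKaehlerEquiv Γ(S, ⊤) Γ(Spec (CommRingCat.of K), ⊤) Γ(X, ⊤) Γ(pullback f φ, ⊤)).symm.trans
        (LinearEquiv.refl _ _) |>.toEquiv.trans
        (Algebra.IsPushout.cancelBaseChange Γ(S, ⊤) Γ(Spec (CommRingCat.of K), ⊤) Γ(X, ⊤) Γ(pullback f φ, ⊤)
          Ω[Γ(X, ⊤)⁄Γ(S, ⊤)]).toEquiv).symm.subsingleton
    let γ : Γ(Spec (CommRingCat.of K), ⊤) ≃ₐ[Γ(S, ⊤)] K :=
      AlgEquiv.ofRingEquiv (f := (Scheme.ΓSpecIso (CommRingCat.of K)).commRingCatIsoToRingEquiv) (by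
        intro a
        show (φ.appTop ≫ (Scheme.ΓSpecIso (CommRingCat.of K)).hom).hom a = algebraMap Γ(S, ⊤) K a
        rw [Scheme.Hom.comp_appTop, Category.assoc, Scheme.ΓSpecIso_naturality, ← Category.assoc,
          FinFibImage.isoSpec_inv_appTop']
        erw [Iso.inv_hom_id, Category.id_comp]
        rfl)
    have h1 : Subsingleton (K ⊗[Γ(S, ⊤)] Ω[Γ(X, ⊤)⁄Γ(S, ⊤)]) :=
      (TensorProduct.congr γ.toLinearEquiv (LinearEquiv.refl _ _)).symm.toEquiv.subsingleton
    haveI := h1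
    haveI : Subsingleton (K ⊗[κ] (κ ⊗[Γ(S, ⊤)] Ω[Γ(X, ⊤)⁄Γ(S, ⊤)])) :=
      (AlgebraTensorModule.cancelBaseChange Γ(S, ⊤) κ κ K Ω[Γ(X, ⊤)⁄Γ(S, ⊤)]).toEquiv.subsingleton
    exact not_nontrivial_iff_subsingleton.2
      (subsingleton_of_tensor_field κ K (κ ⊗[Γ(S, ⊤)] Ω[Γ(X, ⊤)⁄Γ(S, ⊤)])) hp
  exact Algebra.Etale.of_formallyUnramified_of_flat

end Groth.Agent.SteinEt
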