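import Groth.Agent.SteinEt.Span
import Groth.Agent.W7Hull.PushOne
import Groth.Agent.LocFree.Props

/-!
# The direct image of the structure sheaf of a proper flat morphism with geometrically reduced fibres
-/

set_option autoImplicit false
set_option linter.style.haveILetI false
set_option backward.isDefEq.respectTransparency false
set_option backward.isDefEq.respectTransparency.types false
set_option maxHeartbeats 2000000

universe u

open CategoryTheory CategoryTheory.Limits AlgebraicGeometry TopologicalSpace TensorProduct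
open Groth.Agent.QC (res res_res res_smul)
open TMul (IsGen)
open Groth.Agent.W7Hull

noncomputable section

namespace Groth.Agent.SteinEt

variable {X S : Scheme.{u}} (f : X ⟶ S) [IsProper f] [Flat f] [LocallyOfFinitePresentation f]
  [GeometricallyReduced f] [IsAffine S]

theorem spanAt_fibre (y : S)
    (hle : f.fiberToSpecResidueField y ⁻¹ᵁ ⊤ ≤ f.fiberι y ⁻¹ᵁ (f ⁻¹ᵁ ⊤)) :
    W7Cech.SpanAt f (Coh.structureModule X) (f.fiberToSpecResidueField y) (f.fiberι y) ⊤ ⊤ hle := by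
  let O := Coh.structureModule X
  let f' := f.fiberToSpecResidueField y
  let ι := f.fiberι y
  have hgenBy : genBy ι f' = ⊤ := genBy_fibre_eq_top f (S.fromSpecResidueField y) (fun K _ τ hτ => by
    have hy : τ (IsLocalRing.closedPoint K) = y := hτ.trans (S.fromSpecResidueField_apply y _)
    subst hy
    exact ⟨_, Scheme.descResidueField_stalkClosedPointTo_fromSpecResidueField K S τ⟩)
    (IsPullback.of_hasPullback f (S.fromSpecResidueField y))
  let W' := f ⁻¹ᵁ ⊤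
  let P := (Scheme.Modules.pullback ι).obj O
  let gen : Γ(P, f' ⁻¹ᵁ ⊤) := ModDesc.pullSectLE ι O W' (f' ⁻¹ᵁ ⊤) hle (one W')
  have hgen : IsGen gen := by
    change IsGen (ModDesc.pullSectLE ι O W' (f' ⁻¹ᵁ ⊤) hle (one W'))
    rw [ModDesc.pullSectLE_apply]
    exact (C1Cap.isGen_eta ι (isGen_one W')).res _
  let M := Submodule.span Γ(Spec (S.residueField y), ⊤) (Set.range fun s : Γ(O, W') =>
      (show (W7Cech.SM f' P (f' ⁻¹ᵁ ⊤) le_rfl : Type u) from
        ModDesc.pullSectLE ι O W' (f' ⁻¹ᵁ ⊤) hle s))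
  let T : Subring Γ(f.fiber y, f' ⁻¹ᵁ ⊤) :=
    { carrier := {c | ∀ x : Γ(P, f' ⁻¹ᵁ ⊤), (show (W7Cech.SM f' P (f' ⁻¹ᵁ ⊤) le_rfl : Type u) from x) ∈ M →
        (show (W7Cech.SM f' P (f' ⁻¹ᵁ ⊤) le_rfl : Type u) from c • x) ∈ M}
      one_mem' := fun x hx => by simpa using hx
      zero_mem' := fun x hx => by
        change (0 : Γ(f.fiber y, f' ⁻¹ᵁ ⊤)) • x ∈ _
        rw [zero_smul]; exact zero_mem M
      mul_mem' := fun {a b} ha hb x hx => by
        change (a * b) • x ∈ _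
        rw [mul_smul]; exact ha _ (hb x hx)
      add_mem' := fun {a b} ha hb x hx => by
        change (a + b) • x ∈ _
        rw [add_smul]; exact add_mem (ha x hx) (hb x hx)
      neg_mem' := fun {a} ha x hx => by
        change (-a) • x ∈ _
        rw [neg_smul]; exact neg_mem (ha x hx) }
  have hright : ∀ (b : Γ(Spec (S.residueField y), ⊤)) (x : Γ(P, f' ⁻¹ᵁ ⊤)),
      (show (W7Cech.SM f' P (f' ⁻¹ᵁ ⊤) le_rfl : Type u) from x) ∈ M →
      (show (W7Cech.SM f' P (f' ⁻¹ᵁ ⊤) le_rfl : Type u) from (f'.app ⊤).hom b • x) ∈ M := fun b x hx => by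
    have := Submodule.smul_mem M b hx
    change (f'.appLE ⊤ (f' ⁻¹ᵁ ⊤) le_rfl).hom b • x ∈ _ at this
    rwa [← f'.app_eq_appLE] at this
  have hleft : ∀ (a : Γ(X, W')) (x : Γ(P, f' ⁻¹ᵁ ⊤)),
      (show (W7Cech.SM f' P (f' ⁻¹ᵁ ⊤) le_rfl : Type u) from x) ∈ M →
      (show (W7Cech.SM f' P (f' ⁻¹ᵁ ⊤) le_rfl : Type u) from (ι.appLE W' (f' ⁻¹ᵁ ⊤) hle).hom a • x) ∈ M := by
    intro a
    suffices hz : ∀ z ∈ M, (show (W7Cech.SM f' P (f' ⁻¹ᵁ ⊤) le_rfl : Type u) from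
        (ι.appLE W' (f' ⁻¹ᵁ ⊤) hle).hom a • (show Γ(P, f' ⁻¹ᵁ ⊤) from z)) ∈ M from fun x hx => hz _ hx
    intro z hz
    induction hz using Submodule.span_induction with
    | mem z hz =>
      obtain ⟨s, rfl⟩ := hz
      exact Submodule.subset_span ⟨a • (show Γ(O, W') from s), ModDesc.pullSectLE_smul ι O W' (f' ⁻¹ᵁ ⊤) hle a s⟩
    | zero =>
      change (ι.appLE W' (f' ⁻¹ᵁ ⊤) hle).hom a • (0 : Γ(P, f' ⁻¹ᵁ ⊤)) ∈ _
      rw [smul_zero]; exact zero_mem M
    | add u v _ _ hu hv =>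
      change (ι.appLE W' (f' ⁻¹ᵁ ⊤) hle).hom a • ((show Γ(P, f' ⁻¹ᵁ ⊤) from u) + (show Γ(P, f' ⁻¹ᵁ ⊤) from v)) ∈ _
      rw [smul_add]; exact add_mem hu hv
    | smul b v _ hv =>
      change (ι.appLE W' (f' ⁻¹ᵁ ⊤) hle).hom a • ((f'.appLE ⊤ (f' ⁻¹ᵁ ⊤) le_rfl).hom b • (show Γ(P, f' ⁻¹ᵁ ⊤) from v)) ∈ _
      rw [smul_comm]
      exact Submodule.smul_mem M b hv
  have hT : T = ⊤ := by
    rw [← top_le_iff, ← (show genBy ι f' = ⊤ from hgenBy)]
    refine Subring.closure_le.2 ?_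
    rintro _ (⟨a, rfl⟩ | ⟨b, rfl⟩)
    · intro x hx
      have hl : ι.appLE W' (f' ⁻¹ᵁ ⊤) hle = ι.appTop := (Scheme.Hom.app_eq_appLE ι).symm
      have := hleft a x hx
      rw [hl] at this
      exact this
    · exact hright b
  refine eq_top_iff.2 fun x _ => ?_
  obtain ⟨c, hc⟩ := (hgen (f' ⁻¹ᵁ ⊤) le_rfl).2 (show Γ(P, f' ⁻¹ᵁ ⊤) from x)
  change c • res P le_rfl gen = _ at hc
  rw [QC.res_self] at hc
  rw [show x = (show (W7Cech.SM f' P (f' ⁻¹ᵁ ⊤) le_rfl : Type u) from c • gen) from hc.symm]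
  exact (hT ▸ Subring.mem_top c : c ∈ T) gen (Submodule.subset_span ⟨one W', rfl⟩)

theorem preservesEpi_TFun_of_le {X S : Scheme.{u}} (f : X ⟶ S) [IsProper f] [Flat f] [LocallyOfFinitePresentation f]
    [IsAffine S] (hspan : ∀ (y : S) (h : f.fiberToSpecResidueField y ⁻¹ᵁ ⊤ ≤ f.fiberι y ⁻¹ᵁ (f ⁻¹ᵁ ⊤)),
      W7Cech.SpanAt f (Coh.structureModule X) (f.fiberToSpecResidueField y) (f.fiberι y) ⊤ ⊤ h)
    {U : S.Opens} (hU : IsAffineOpen U) (m : W7Cech.ModelNN f (Coh.structureModule X) hU) :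
    (CohIII.TFun m.L 0).PreservesEpimorphisms := by
  let O := Coh.structureModule X
  have hq : Coh.IsQCoh O := QC.isQCoh_unit X
  have hfl : FlatMod.IsFlatOver f O := SchDense.isFlatOver_unit f
  rw [FlatCx.preservesEpi_iff_flat_opc m.L 0 (W7Cech.flatX m.L m.hL) (W7Cech.up_prev_next 0)]
  haveI : ∀ i, Module.FinitePresentation Γ(S, U) (m.L.X i) := W7Cech.finitePresentationX m.L m.hL
  haveI : Module.FinitePresentation Γ(S, U) (FlatCx.Opc m.L 0 ((ComplexShape.up ℤ).next 0)) :=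
    Module.finitePresentation_of_surjective (LinearMap.range (m.L.d 0 _).hom).mkQ (Submodule.mkQ_surjective _) (by
      haveI := (m.hL 0).1
      rw [Submodule.ker_mkQ, LinearMap.range_eq_map]
      exact Module.Finite.fg_top.map _)
  haveI := Module.freeLocus_eq_univ_iff.1 (Set.eq_univ_of_forall fun x => by
    let z := hU.fromSpec x
    have hz : z ∈ U := W7Cech.fromSpec_mem hU x
    rw [show x = hU.primeIdealOf ⟨z, hz⟩ from
      hU.fromSpec.isOpenEmbedding.injective (hU.fromSpec_primeIdealOf ⟨z, hz⟩).symm]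
    refine (W7Cech.spanAt_iff f O hq hfl hU m z hz (fun w _ => ?_)).1 (W7Cech.SpanAt.mono f O _ _ le_top _ (hspan z (fun w _ => trivial)))
    show f (f.fiberι z w) ∈ U
    rw [← Scheme.Hom.comp_apply, Scheme.Hom.fiber_fac, Scheme.Hom.comp_apply, Scheme.fromSpecResidueField_apply]
    exact hz)
  infer_instance

theorem preservesEpi_TFun {U : S.Opens} (hU : IsAffineOpen U)
    (m : W7Cech.ModelNN f (Coh.structureModule X) hU) : (CohIII.TFun m.L 0).PreservesEpimorphisms :=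
  preservesEpi_TFun_of_le f (fun y h => spanAt_fibre f y h) hU m

/-- the direct image of the structure sheaf is locally free -/
theorem isFinLocFree_push : FlatMod.IsFinLocFree
    (((Coh.push f).obj (Coh.structureModule X)).restrict (⊤ : S.Opens).ι) :=
  W7Cech.isFinLocFree_push_restrict_of_epi f _ (QC.isQCoh_unit X) (SchDense.isFP_unit X) (SchDense.isFlatOver_unit f) ⊤
    fun _ hU _ m => preservesEpi_TFun f hU m

set_option maxHeartbeats 4000000 in
/-- **formation of the functions commutes with base change** -/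
theorem isPushout_appTop {T X' : Scheme.{u}} [IsAffine T] {g : T ⟶ S} {f' : X' ⟶ T} {g' : X' ⟶ X}
    (hsq : IsPullback g' f' f g) : IsPushout f.appTop g.appTop g'.appTop f'.appTop := by
  let O := Coh.structureModule X
  have hq : Coh.IsQCoh O := QC.isQCoh_unit X
  have hF : CohB1.IsFP O := SchDense.isFP_unit X
  have hfl : FlatMod.IsFlatOver f O := SchDense.isFlatOver_unit f
  let A : Type u := Γ(S, ⊤)
  let B : Type u := Γ(T, ⊤)
  have hVU : (⊤ : T.Opens) ≤ g ⁻¹ᵁ ⊤ := fun _ _ => trivial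
  have hle : f' ⁻¹ᵁ ⊤ ≤ g' ⁻¹ᵁ (f ⁻¹ᵁ ⊤) := fun _ _ => trivial
  obtain ⟨m⟩ := W7Cech.nonempty_ModelNN f hq hF hfl (isAffineOpen_top S)
  have hbc := W7Cech.isBC_bc0Adj f hq hfl (isAffineOpen_top S) m (preservesEpi_TFun f _ m) hsq (isAffineOpen_top T) hVU
  let G := (Scheme.Modules.pullback g').obj O
  let K := (Scheme.Modules.pushforward f').obj G
  let r := RelTilde.resθ g (CohBC.bc0Adj f g f' g' hsq.w O) hVU
  let gen : Γ(G, f' ⁻¹ᵁ ⊤) := ModDesc.pullSectLE g' O (f ⁻¹ᵁ ⊤) (f' ⁻¹ᵁ ⊤) hle (one (f ⁻¹ᵁ ⊤))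
  have hgen : IsGen gen := by
    change IsGen (ModDesc.pullSectLE g' O (f ⁻¹ᵁ ⊤) (f' ⁻¹ᵁ ⊤) hle (one (f ⁻¹ᵁ ⊤)))
    rw [ModDesc.pullSectLE_apply]
    exact (C1Cap.isGen_eta g' (isGen_one (f ⁻¹ᵁ ⊤))).res _
  have hr : ∀ a : Γ(X, f ⁻¹ᵁ ⊤), r (show Γ((Scheme.Modules.pushforward f).obj O, ⊤) from a • one (f ⁻¹ᵁ ⊤)) =
      (show Γ(K, ⊤) from (show Γ(X', f' ⁻¹ᵁ ⊤) from g'.appTop.hom a) • gen) := fun a => by
    refine (res_res _ _ _ _).trans ?_
    show ModDesc.pullSectLE g' O (f ⁻¹ᵁ ⊤) (f' ⁻¹ᵁ ⊤) hle (a • one (f ⁻¹ᵁ ⊤)) = _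
    rw [ModDesc.pullSectLE_smul]
    exact congrArg (fun φ : Γ(X, f ⁻¹ᵁ ⊤) ⟶ Γ(X', f' ⁻¹ᵁ ⊤) => φ.hom a • gen) g'.app_eq_appLE.symm
  have hgb : Function.Bijective fun c : Γ(X', f' ⁻¹ᵁ ⊤) => c • gen := by
    have := hgen (f' ⁻¹ᵁ ⊤) le_rfl
    simp only [QC.res_self] at this
    exact this
  letI : Algebra A B := g.appTop.hom.toAlgebra
  letI : Algebra A Γ(X, ⊤) := f.appTop.hom.toAlgebra
  letI : Algebra B Γ(X', ⊤) := f'.appTop.hom.toAlgebra
  letI : Algebra Γ(X, ⊤) Γ(X', ⊤) := g'.appTop.hom.toAlgebra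
  letI : Algebra A Γ(X', ⊤) := (g'.appTop.hom.comp f.appTop.hom).toAlgebra
  haveI : IsScalarTower A Γ(X, ⊤) Γ(X', ⊤) := IsScalarTower.of_algebraMap_eq' rfl
  haveI : IsScalarTower A B Γ(X', ⊤) := IsScalarTower.of_algebraMap_eq' (by
    show g'.appTop.hom.comp f.appTop.hom = f'.appTop.hom.comp g.appTop.hom
    rw [← CommRingCat.hom_comp, ← CommRingCat.hom_comp, ← Scheme.Hom.comp_appTop, ← Scheme.Hom.comp_appTop, hsq.w])
  haveI : Algebra.IsPushout A Γ(X, ⊤) B Γ(X', ⊤) := by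
    refine Algebra.IsPushout.symm ⟨?_⟩
    refine IsBaseChange.of_lift_unique _ fun Q _ _ _ _ φ => ?_
    letI : AddCommGroup Q := Module.addCommMonoidToAddCommGroup B
    have hg : g.appLE ⊤ ⊤ hVU = g.appTop := g.app_eq_appLE.symm
    let w : Γ((Scheme.Modules.pushforward f).obj O, ⊤) →ₛₗ[(g.appLE ⊤ ⊤ hVU).hom] Q :=
      { toFun := fun s => φ (show Γ(X, ⊤) from s)
        map_add' := fun s t => map_add φ _ _
        map_smul' := fun a s => by
          show φ (f.appTop.hom a * (show Γ(X, ⊤) from s)) = _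
          rw [show f.appTop.hom a * (show Γ(X, ⊤) from s) = a • (show Γ(X, ⊤) from s) from
            (Algebra.smul_def _ _).symm, map_smul, hg]
          exact (algebraMap_smul B a _).symm }
    obtain ⟨k, hk, huniq⟩ := hbc Q w
    let θ : Γ(X', ⊤) →ₗ[B] Γ(K, ⊤) :=
      { toFun := fun c => (show Γ(K, ⊤) from (show Γ(X', f' ⁻¹ᵁ ⊤) from c) • gen)
        map_add' := fun a b => add_smul (show Γ(X', f' ⁻¹ᵁ ⊤) from a) (show Γ(X', f' ⁻¹ᵁ ⊤) from b) gen
        map_smul' := fun b c => by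
          show ((f'.app ⊤).hom b * (show Γ(X', f' ⁻¹ᵁ ⊤) from c)) • gen = (f'.app ⊤).hom b • ((show Γ(X', f' ⁻¹ᵁ ⊤) from c) • gen)
          rw [mul_smul] }
    have hθr : ∀ a : Γ(X, ⊤), θ (g'.appTop.hom a) = r (show Γ((Scheme.Modules.pushforward f).obj O, ⊤) from a) := fun a => by
      refine ((congrArg r ?_).trans (hr a)).symm
      show (show Γ(X, ⊤) from a) = a * 1
      rw [mul_one]
    refine ⟨k ∘ₗ θ, LinearMap.ext fun a => ?_, fun k' hk' => ?_⟩
    · exact (congrArg k (hθr a)).trans (hk _)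
    · let e := LinearEquiv.ofBijective θ hgb
      have h2 := huniq (k' ∘ₗ e.symm.toLinearMap) fun s => by
        have : e.symm (r s) = g'.appTop.hom (show Γ(X, ⊤) from s) := by
          rw [LinearEquiv.symm_apply_eq]; exact (hθr _).symm
        exact (congrArg k' this).trans (LinearMap.congr_fun hk' (show Γ(X, ⊤) from s))
      rw [← h2]
      exact LinearMap.ext fun c => (congrArg k' (e.symm_apply_apply c)).symm
  exact CommRingCat.isPushout_iff_isPushout.mpr (inferInstance : Algebra.IsPushout A Γ(X, ⊤) B Γ(X', ⊤))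

end Groth.Agent.SteinEt
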