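import Groth.Agent.StructPush.Basic
import Groth.Agent.ZarConn.PairFP
import Groth.Agent.FinFibImage.Main
import Groth.Agent.FibIdem.Main
import Groth.Agent.SteinGen.GeomConn
import Groth.Agent.PiSpDesc.Saturate
import Groth.Agent.PiSpDesc.Main
import Groth.Agent.S0164
import Mathlib.RingTheory.Flat.FaithfullyFlat.Basic

/-!
# Functions on the fibres of a proper flat morphism with geometrically reduced fibres
-/

set_option autoImplicit false
set_option linter.style.haveILetI false
set_option backward.isDefEq.respectTransparency false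
set_option backward.isDefEq.respectTransparency.types false
set_option maxHeartbeats 1000000

universe u

open CategoryTheory CategoryTheory.Limits AlgebraicGeometry TensorProduct IsLocalRing

noncomputable section

namespace Groth.Agent.SteinEt

open Groth.Agent.PiSpDesc

/-- the functions generated by those coming from two maps -/
abbrev genBy {X P Q : Scheme.{u}} (p : P ⟶ X) (q : P ⟶ Q) : Subring Γ(P, ⊤) :=
  Subring.closure (Set.range p.appTop.hom ∪ Set.range q.appTop.hom)

theorem app_mem_genBy_left {X P Q : Scheme.{u}} (p : P ⟶ X) (q : P ⟶ Q) (a : Γ(X, ⊤)) :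
    p.appTop.hom a ∈ genBy p q := Subring.subset_closure (Or.inl ⟨a, rfl⟩)

theorem app_mem_genBy_right {X P Q : Scheme.{u}} (p : P ⟶ X) (q : P ⟶ Q) (a : Γ(Q, ⊤)) :
    q.appTop.hom a ∈ genBy p q := Subring.subset_closure (Or.inr ⟨a, rfl⟩)

theorem eq_of_appTop_eq {Y : Scheme.{u}} {ι : Type*} (U : ι → Y.Opens) (hU : (⊤ : Y.Opens) ≤ iSup U)
    (a b : Γ(Y, ⊤)) (h : ∀ i, (U i).ι.appTop.hom a = (U i).ι.appTop.hom b) : a = b := by
  refine TopCat.Sheaf.eq_of_locally_eq' Y.sheaf (fun i => (U i).ι ''ᵁ ⊤) ⊤ (fun i => homOfLE le_top) ?_ a b fun i => h i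
  simpa using hU

theorem geometricallyReduced_ι {Y S : Scheme.{u}} (g : Y ⟶ S) [GeometricallyReduced g] (U : Y.Opens) :
    GeometricallyReduced (U.ι ≫ g) := by
  refine ⟨fun K _ y Z fst snd H => ?_⟩
  haveI : IsReduced (pullback g y) := GeometricallyReduced.geometrically_isReduced _ _ _ (.of_hasPullback g y)
  let u : Z ⟶ pullback g y := pullback.lift (fst ≫ U.ι) snd (by rw [Category.assoc]; exact H.w)
  have hu : IsPullback fst u U.ι (pullback.fst g y) :=
    IsPullback.of_bot (by rw [pullback.lift_snd]; exact H) (pullback.lift_fst _ _ _).symm (IsPullback.of_hasPullback g y)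
  haveI : IsOpenImmersion u := MorphismProperty.of_isPullback (P := @IsOpenImmersion) hu inferInstance
  exact isReduced_of_isOpenImmersion u

/-- over a separably closed field idempotents span the functions -/
theorem mem_of_idempotents {K : Type u} [Field K] [IsSepClosed K] {Z : Scheme.{u}}
    (q : Z ⟶ Spec (CommRingCat.of K)) [IsProper q] [GeometricallyReduced q] (T : Subring Γ(Z, ⊤))
    (hT : ∀ c, q.appTop.hom c ∈ T)
    (hW : ∀ W : Set Z, IsClopen W → ∃ e ∈ T, IsIdempotentElem e ∧ (Z.basicOpen e : Set Z) = W) : T = ⊤ := by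
  classical
  haveI : IsLocallyNoetherian Z := LocallyOfFiniteType.isLocallyNoetherian q
  haveI : CompactSpace Z := QuasiCompact.compactSpace_of_compactSpace q
  haveI : AlgebraicGeometry.IsNoetherian Z := {}
  haveI : Finite (_root_.ConnectedComponents Z) := finite_connectedComponents Z
  haveI := Fintype.ofFinite (_root_.ConnectedComponents Z)
  haveI : Flat q := by
    refine IsZariskiLocalAtSource.of_openCover (P := @Flat) Z.affineCover fun i => ?_
    obtain ⟨φ, hφ⟩ := Spec.map_surjective (Z.affineCover.f i ≫ q)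
    rw [← hφ, HasRingHomProperty.Spec_iff (P := @Flat)]
    letI := φ.hom.toAlgebra
    exact RingHom.flat_algebraMap_iff.2 (inferInstanceAs (Module.Flat K _))
  choose e heT heI heB using fun c : _root_.ConnectedComponents Z => hW (comp Z c : Set Z) ⟨isClosed_comp Z c, (comp Z c).2⟩
  have hone : ∀ c, (comp Z c).ι.appTop.hom (e c) = 1 := fun c => by
    haveI := connectedSpace_comp Z c
    haveI := isClosedImmersion_ι (comp Z c) (isClosed_comp Z c)
    haveI : CompactSpace (comp Z c).toScheme := QuasiCompact.compactSpace_of_compactSpace (comp Z c).ι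
    refine FibIdem.eq_of_basicOpen_eq ((heI c).map _) IsIdempotentElem.one ?_
    rw [← Scheme.preimage_basicOpen_top, Scheme.basicOpen_of_isUnit _ isUnit_one]
    refine eq_top_iff.2 fun x _ => ?_
    show (comp Z c).ι x ∈ Z.basicOpen (e c)
    rw [← SetLike.mem_coe, heB c]
    exact x.2
  have hzero : ∀ c d, c ≠ d → (comp Z d).ι.appTop.hom (e c) = 0 := fun c d hcd => by
    haveI := isClosedImmersion_ι (comp Z d) (isClosed_comp Z d)
    haveI : CompactSpace (comp Z d).toScheme := QuasiCompact.compactSpace_of_compactSpace (comp Z d).ι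
    refine FibIdem.eq_of_basicOpen_eq ((heI c).map _) IsIdempotentElem.zero ?_
    rw [← Scheme.preimage_basicOpen_top, Scheme.basicOpen_zero]
    refine eq_bot_iff.2 fun x hx => ?_
    change (comp Z d).ι x ∈ Z.basicOpen (e c) at hx
    rw [← SetLike.mem_coe, heB c] at hx
    exact hcd (((mem_comp_iff Z c _).1 hx).symm.trans ((mem_comp_iff Z d _).1 x.2))
  have hbij : ∀ c, Function.Bijective ((comp Z c).ι ≫ q).appTop := fun c => by
    haveI := connectedSpace_comp Z c
    haveI := isClosedImmersion_ι (comp Z c) (isClosed_comp Z c)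
    haveI := geometricallyReduced_ι q (comp Z c)
    haveI : Surjective ((comp Z c).ι ≫ q) :=
      ⟨fun p => ⟨Classical.arbitrary _, Subsingleton.elim (α := PrimeSpectrum K) _ _⟩⟩
    haveI : GeometricallyConnected ((comp Z c).ι ≫ q) := ⟨fun Ω _ y W fst snd H => by
      obtain ⟨φ, hφ⟩ := Spec.map_surjective y
      letI := φ.hom.toAlgebra
      haveI := S0164.connected_pullback ((comp Z c).ι ≫ q) Ω (k := K)
      subst hφ
      exact H.isoPullback.hom.homeomorph.connectedSpace_iff.mpr ‹_›⟩
    exact StructPush.bijective_appTop _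
  refine eq_top_iff.2 fun g _ => ?_
  choose a ha using fun c => (hbij c).2 ((comp Z c).ι.appTop.hom g)
  have hg : g = ∑ c, q.appTop.hom (a c) * e c := by
    refine eq_of_appTop_eq (fun c => comp Z c) (fun x _ => TopologicalSpace.Opens.mem_iSup.2 ⟨_root_.ConnectedComponents.mk x, rfl⟩) _ _ fun d => ?_
    rw [map_sum, Finset.sum_eq_single d (fun c _ hc => by rw [map_mul, hzero c d hc, mul_zero])
      (fun h => absurd (Finset.mem_univ d) h), map_mul, hone d, mul_one]
    refine (ha d).symm.trans ?_
    rw [Scheme.Hom.comp_appTop]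
    rfl
  rw [hg]
  exact Subring.sum_mem _ fun c _ => T.mul_mem (hT _) (heT c)

/-- generation descends along field extensions -/
theorem genBy_eq_top_of_extension {k K : Type u} [Field k] [Field K] (α : k →+* K) {X Z : Scheme.{u}}
    {f : Z ⟶ Spec (CommRingCat.of k)} [CompactSpace Z] [Z.IsSeparated] [Flat f] {P : Scheme.{u}}
    {pt : P ⟶ Z} {qt : P ⟶ Spec (CommRingCat.of K)} (H : IsPullback pt qt f (Spec.map (CommRingCat.ofHom α)))
    (i : Z ⟶ X) (h : genBy (pt ≫ i) qt = ⊤) : genBy i f = ⊤ := by
  let σ := Spec.map (CommRingCat.ofHom α)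
  haveI : Flat σ := by
    rw [HasRingHomProperty.Spec_iff (P := @Flat)]
    letI := α.toAlgebra
    exact RingHom.flat_algebraMap_iff.2 (inferInstanceAs (Module.Flat k K))
  haveI : Surjective σ := ⟨fun p => ⟨(closedPoint K : PrimeSpectrum K), Subsingleton.elim (α := PrimeSpectrum k) _ _⟩⟩
  have hflat : σ.appTop.hom.Flat := HasRingHomProperty.appTop (P := @Flat) σ inferInstance
  have hff : σ.appTop.hom.FaithfullyFlat := by
    rw [← flat_and_surjective_SpecMap_iff]
    exact ⟨(MorphismProperty.arrow_mk_iso_iff (P := @Flat) (arrowIsoSpecΓOfIsAffine σ)).mp inferInstance,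
      (MorphismProperty.arrow_mk_iso_iff (P := @Surjective) (arrowIsoSpecΓOfIsAffine σ)).mp inferInstance⟩
  have HP := GammaProd.isPushout_appTop hflat H
  letI : Algebra Γ(Spec (CommRingCat.of k), ⊤) Γ(Z, ⊤) := f.appTop.hom.toAlgebra
  letI : Algebra Γ(Spec (CommRingCat.of k), ⊤) Γ(Spec (CommRingCat.of K), ⊤) := σ.appTop.hom.toAlgebra
  haveI : Module.FaithfullyFlat Γ(Spec (CommRingCat.of k), ⊤) Γ(Spec (CommRingCat.of K), ⊤) := hff
  have PY := CommRingCat.isPushout_tensorProduct Γ(Spec (CommRingCat.of k), ⊤) Γ(Z, ⊤) Γ(Spec (CommRingCat.of K), ⊤)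
  let d := PY.desc pt.appTop qt.appTop HP.w
  haveI : IsIso d := FinFibImage.isIso_desc_of_isPushout PY _ _ HP.w HP
  let W : Subalgebra Γ(Spec (CommRingCat.of k), ⊤) Γ(Z, ⊤) :=
    { genBy i f with algebraMap_mem' := fun r => app_mem_genBy_right i f r }
  let w := Algebra.TensorProduct.map W.val (AlgHom.id Γ(Spec (CommRingCat.of k), ⊤) Γ(Spec (CommRingCat.of K), ⊤))
  let T : Subring Γ(P, ⊤) := (w.toRingHom.range).map d.hom
  have hd₁ : ∀ z : Γ(Z, ⊤), d.hom (z ⊗ₜ (1 : Γ(Spec (CommRingCat.of K), ⊤))) = pt.appTop.hom z := fun z =>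
    congr($(PY.inl_desc pt.appTop qt.appTop HP.w).hom z)
  have hd₂ : ∀ b : Γ(Spec (CommRingCat.of K), ⊤), d.hom ((1 : Γ(Z, ⊤)) ⊗ₜ b) = qt.appTop.hom b := fun b =>
    congr($(PY.inr_desc pt.appTop qt.appTop HP.w).hom b)
  have hT : T = ⊤ := by
    rw [← top_le_iff, ← h]
    refine Subring.closure_le.2 ?_
    rintro _ (⟨a, rfl⟩ | ⟨b, rfl⟩)
    · refine ⟨_, ⟨(⟨i.appTop.hom a, app_mem_genBy_left i f a⟩ : W) ⊗ₜ 1, rfl⟩, ?_⟩
      refine (hd₁ _).trans ?_
      rw [Scheme.Hom.comp_appTop]
      rfl
    · exact ⟨_, ⟨(1 : W) ⊗ₜ b, rfl⟩, hd₂ b⟩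
  have hsurj : Function.Surjective w := fun z => by
    obtain ⟨_, ⟨x, rfl⟩, hx⟩ := (hT ▸ Subring.mem_top (d.hom z) : d.hom z ∈ T)
    exact ⟨x, (ConcreteCategory.bijective_of_isIso d).1 hx⟩
  have hv : Function.Surjective W.val.toLinearMap :=
    (Module.FaithfullyFlat.lTensor_surjective_iff_surjective Γ(Spec (CommRingCat.of k), ⊤)
      Γ(Spec (CommRingCat.of K), ⊤) W.val.toLinearMap).1 (by
        intro z
        obtain ⟨x, hx⟩ := hsurj ((TensorProduct.comm _ _ _).symm z)
        refine ⟨TensorProduct.comm _ _ _ x, ?_⟩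
        rw [← (TensorProduct.comm _ _ _).apply_symm_apply z, ← hx]
        clear hx
        induction x using TensorProduct.induction_on with
        | zero => simp
        | tmul a b => rfl
        | add x y hx hy => rw [map_add, map_add, hx, hy, map_add, map_add])
  refine eq_top_iff.2 fun z _ => ?_
  obtain ⟨x, rfl⟩ := hv z
  exact x.2

variable {X S : Scheme.{u}} (f : X ⟶ S) [IsProper f] [Flat f] [LocallyOfFinitePresentation f]
  [GeometricallyReduced f]

/-- **functions on a fibre come from the total space and the residue field** -/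
theorem genBy_fibre_eq_top [IsAffine S] {k : Type u} [Field k] (σ : Spec (CommRingCat.of k) ⟶ S)
    (hσ : ∀ (K : Type u) [Field K] (τ : Spec (CommRingCat.of K) ⟶ S), τ (closedPoint K) = σ (closedPoint k) →
      ∃ α : CommRingCat.of k ⟶ CommRingCat.of K, Spec.map α ≫ σ = τ)
    {Z : Scheme.{u}} {i : Z ⟶ X} {g : Z ⟶ Spec (CommRingCat.of k)} (H : IsPullback i g f σ) :
    genBy i g = ⊤ := by
  let y : S := σ (closedPoint k)
  let y' : Spec Γ(S, ⊤) := S.isoSpec.hom y
  obtain ⟨A, _, _, _, _, ψ, hψ, hψy⟩ := SteinGen.exists_strictly_henselian_flat Γ(S, ⊤) y'.asIdeal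
  let φ : Spec (CommRingCat.of A) ⟶ S := Spec.map (CommRingCat.ofHom ψ) ≫ S.isoSpec.inv
  let K := ResidueField A
  let cl : Spec (CommRingCat.of K) ⟶ Spec (CommRingCat.of A) := Spec.map (CommRingCat.ofHom (residue A))
  have hy : (cl ≫ φ) (closedPoint K) = y := by
    have : Spec.map (CommRingCat.ofHom ψ) (cl (closedPoint K)) = y' := by
      refine PrimeSpectrum.ext ?_
      refine Eq.trans ?_ hψy
      refine congrArg (Ideal.comap ψ) ?_
      show Ideal.comap (residue A) (maximalIdeal K) = maximalIdeal A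
      rw [IsLocalRing.maximalIdeal_eq_bot, ← RingHom.ker_eq_comap_bot, IsLocalRing.ker_residue]
    show S.isoSpec.inv (Spec.map (CommRingCat.ofHom ψ) (cl (closedPoint K))) = y
    rw [this, ← Scheme.Hom.comp_apply, Iso.hom_inv_id]
    rfl
  obtain ⟨α, hα⟩ := hσ K (cl ≫ φ) hy
  haveI : IsProper g := MorphismProperty.of_isPullback H inferInstance
  haveI : Flat g := MorphismProperty.of_isPullback H inferInstance
  haveI : GeometricallyReduced g := MorphismProperty.of_isPullback H inferInstance
  haveI : CompactSpace Z := QuasiCompact.compactSpace_of_compactSpace g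
  haveI : Z.IsSeparated := ⟨by
    rw [show terminal.from Z = g ≫ terminal.from _ from Subsingleton.elim _ _]; infer_instance⟩
  refine genBy_eq_top_of_extension (k := k) (K := K) α.hom (f := g)
    (IsPullback.of_hasPullback g (Spec.map α)) i ?_
  -- the fibre over the strictly henselian base
  let qt := pullback.snd g (Spec.map α)
  let pt := pullback.fst g (Spec.map α)
  let m : pullback g (Spec.map α) ⟶ pullback f φ := pullback.lift (pt ≫ i) (qt ≫ cl) (by
    rw [Category.assoc, Category.assoc, ← hα, H.w, ← Category.assoc, ← Category.assoc, pullback.condition])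
  have hm₁ : m ≫ pullback.fst f φ = pt ≫ i := pullback.lift_fst _ _ _
  have hm₂ : m ≫ pullback.snd f φ = qt ≫ cl := pullback.lift_snd _ _ _
  have sq : IsPullback m qt (pullback.snd f φ) cl := by
    refine IsPullback.of_right ?_ hm₂ (IsPullback.of_hasPullback f φ)
    rw [hm₁, ← hα]
    exact (IsPullback.of_hasPullback g (Spec.map α)).paste_horiz H
  haveI : IsClosedImmersion cl := IsClosedImmersion.spec_of_surjective _ residue_surjective
  haveI : IsClosedImmersion m := MorphismProperty.of_isPullback (P := @IsClosedImmersion) sq.flip inferInstance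
  haveI : IsProper (pullback.snd f φ) := inferInstance
  haveI : IsProper qt := inferInstance
  haveI : GeometricallyReduced qt := inferInstance
  have hflat : φ.appTop.hom.Flat := by
    have h : Flat φ := by
      haveI : Flat (Spec.map (CommRingCat.ofHom ψ)) := (HasRingHomProperty.Spec_iff (P := @Flat)).mpr hψ
      infer_instance
    exact HasRingHomProperty.appTop (P := @Flat) φ h
  haveI : CompactSpace X := QuasiCompact.compactSpace_of_compactSpace f
  haveI : X.IsSeparated := ⟨by
    rw [show terminal.from X = f ≫ terminal.from S from Subsingleton.elim _ _]; infer_instance⟩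
  have hmT : ∀ x : Γ(pullback f φ, ⊤), m.appTop.hom x ∈ genBy (pt ≫ i) qt := fun x => by
    obtain ⟨n, a, b, rfl⟩ := GammaProd.exists_sum hflat (IsPullback.of_hasPullback f φ) x
    rw [map_sum]
    refine Subring.sum_mem _ fun i _ => ?_
    rw [map_mul]
    refine Subring.mul_mem _ ?_ ?_
    · rw [← CommRingCat.comp_apply, ← Scheme.Hom.comp_appTop, hm₁]
      exact app_mem_genBy_left _ _ _
    · rw [← CommRingCat.comp_apply, ← Scheme.Hom.comp_appTop, hm₂, Scheme.Hom.comp_appTop]
      exact app_mem_genBy_right _ _ _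
  refine mem_of_idempotents qt _ (app_mem_genBy_right _ qt) fun W hW => ?_
  have hrange : ∀ x, maximalIdeal A ≤ (pullback.snd f φ x).asIdeal ↔ x ∈ Set.range m := fun x => by
    rw [← sq.isoPullback_hom_fst, Scheme.Hom.comp_base, TopCat.coe_comp, Set.range_comp,
      Set.range_eq_univ.2 (show Function.Surjective sq.isoPullback.hom from sq.isoPullback.hom.homeomorph.surjective), Set.image_univ, Scheme.Pullback.range_fst,
      Set.mem_preimage]
    show _ ↔ _ ∈ Set.range (PrimeSpectrum.comap (residue A))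
    rw [range_comap_of_surjective _ _ residue_surjective, IsLocalRing.ker_residue, PrimeSpectrum.mem_zeroLocus,
      SetLike.coe_subset_coe]
  obtain ⟨V, hV, hV₁, hV₂⟩ := ZarConn.exists_clopen_extension_fp (maximalIdeal A) (pullback.snd f φ)
    (m '' W) (m '' Wᶜ) (m.isClosedEmbedding.isClosedMap _ hW.1) (m.isClosedEmbedding.isClosedMap _ hW.compl.1)
    (Set.disjoint_image_of_injective m.isClosedEmbedding.injective disjoint_compl_right) fun x => by
      rw [hrange, ← Set.image_union, Set.union_compl_self, Set.image_univ]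
  obtain ⟨e, he, heV⟩ := FinFibImage.exists_idem_of_isClopen V hV
  refine ⟨_, hmT e, he.map _, ?_⟩
  rw [← Scheme.preimage_basicOpen_top]
  show m ⁻¹' (Scheme.basicOpen _ e : Set _) = W
  rw [heV]
  ext x
  refine ⟨fun hx => by_contra fun hxW => ?_, fun hx => hV₁ ⟨x, hx, rfl⟩⟩
  exact Set.disjoint_left.1 hV₂ ⟨x, hxW, rfl⟩ hx

end Groth.Agent.SteinEt
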